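import Cfsg.Agent.Lib.TwoGroups.MetacyclicTwo
import Cfsg.Agent.Lib.TwoGroups.Recognition
import Cfsg.Agent.Lib.SylowInter.Basic
import Cfsg.Agent.S0646
import Cfsg.Agent.S3178
import Cfsg.Prelude.Def_CaseTheorems

/-!
# Groups with cyclic Sylow subgroups for odd primes and almost cyclic Sylow 2-subgroups (helper1)
-/

set_option autoImplicit false
set_option linter.style.haveILetI false

namespace Cfsg.Agent.Lib.CyclicSylows69

open Subgroup

/-- All `p`-subgroups, `p` odd, are cyclic. -/
def CycOdd (G : Type*) [Group G] : Prop :=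
  ∀ p : ℕ, p.Prime → p ≠ 2 → ∀ P : Subgroup G, IsPGroup p P → IsCyclic P

/-- All 2-subgroups have a cyclic subgroup of index at most two. -/
def CycTwo (G : Type*) [Group G] : Prop :=
  ∀ P : Subgroup G, IsPGroup 2 P → ∃ C : Subgroup P, IsCyclic C ∧ C.index ∣ 2

theorem normal_of_index_dvd_two {G : Type*} [Group G] {C : Subgroup G} (h : C.index ∣ 2) :
    C.Normal := by
  rcases (Nat.dvd_prime Nat.prime_two).1 h with h | h
  · rw [index_eq_one.1 h]; infer_instance
  · exact normal_of_index_eq_two h

theorem cyclicIndexTwo_of_injective {A B : Type*} [Group A] [Group B] (f : A →* B)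
    (hf : Function.Injective f) (h : ∃ C : Subgroup B, IsCyclic C ∧ C.index ∣ 2) :
    ∃ C : Subgroup A, IsCyclic C ∧ C.index ∣ 2 := by
  obtain ⟨C, hC, hi⟩ := h
  haveI := normal_of_index_dvd_two hi
  refine ⟨C.comap f, ?_, ?_⟩
  · exact isCyclic_of_injective (f.subgroupComap C) (fun x y hxy =>
      Subtype.ext (hf (congrArg Subtype.val hxy)))
  · rw [Subgroup.index_comap]
    exact (relIndex_dvd_index_of_normal C f.range).trans hi

section heredity

variable {G : Type*} [Group G] [Finite G]

theorem cycOdd_of_sylow (h : ∀ p : ℕ, p.Prime → p ≠ 2 → ∀ P : Sylow p G, IsCyclic P) :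
    CycOdd G := by
  intro p hp h2 P hP
  haveI : Fact p.Prime := ⟨hp⟩
  obtain ⟨S, hS⟩ := hP.exists_le_sylow
  haveI := h p hp h2 S
  exact isCyclic_of_injective (Subgroup.inclusion hS) (Subgroup.inclusion_injective hS)

theorem cycTwo_of_sylow
    (h : ∀ S : Sylow 2 G, ∃ C : Subgroup ↥(S : Subgroup G), IsCyclic C ∧ C.index ∣ 2) :
    CycTwo G := by
  intro P hP
  haveI : Fact (Nat.Prime 2) := ⟨Nat.prime_two⟩
  obtain ⟨S, hS⟩ := hP.exists_le_sylow
  exact cyclicIndexTwo_of_injective (Subgroup.inclusion hS) (Subgroup.inclusion_injective hS) (h S)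

theorem CycOdd.subgroup (h : CycOdd G) (H : Subgroup G) : CycOdd H := by
  intro p hp h2 P hP
  haveI := h p hp h2 (P.map H.subtype) (hP.map _)
  exact isCyclic_of_injective (P.equivMapOfInjective H.subtype H.subtype_injective).toMonoidHom
    (MulEquiv.injective _)

theorem CycTwo.subgroup (h : CycTwo G) (H : Subgroup G) : CycTwo H := by
  intro P hP
  exact cyclicIndexTwo_of_injective
    (P.equivMapOfInjective H.subtype H.subtype_injective).toMonoidHom
    (MulEquiv.injective _) (h (P.map H.subtype) (hP.map _))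

theorem CycOdd.of_surjective (h : CycOdd G) {Q : Type*} [Group Q] (f : G →* Q)
    (hf : Function.Surjective f) : CycOdd Q := by
  haveI : Finite Q := Finite.of_surjective f hf
  refine cycOdd_of_sylow fun p hp h2 T => ?_
  haveI : Fact p.Prime := ⟨hp⟩
  let S : Sylow p G := default
  haveI := h p hp h2 S S.2
  let g : (S : Subgroup G) →* ((S.mapSurjective hf : Sylow p Q) : Subgroup Q) :=
    f.subgroupMap (S : Subgroup G)
  haveI : IsCyclic ((S.mapSurjective hf : Sylow p Q) : Subgroup Q) :=
    isCyclic_of_surjective g (f.subgroupMap_surjective _)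
  exact isCyclic_of_surjective ((S.mapSurjective hf).equiv T).toMonoidHom (MulEquiv.surjective _)

/-- A group of odd order with cyclic `p`-subgroups is a Z-group. -/
theorem CycOdd.isZGroup (h : CycOdd G) (hodd : Odd (Nat.card G)) : IsZGroup G := by
  refine ⟨fun p hp P => ?_⟩
  by_cases h2 : p = 2
  · subst h2
    haveI : Fact (Nat.Prime 2) := ⟨hp⟩
    haveI : Subsingleton (P : Subgroup G) := by
      rw [← Finite.card_le_one_iff_subsingleton]
      obtain ⟨k, hk⟩ := IsPGroup.iff_card.1 P.2
      rcases k with _ | k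
      · exact le_of_eq hk
      · exfalso
        refine Nat.not_even_iff_odd.2 hodd (even_iff_two_dvd.2 ?_)
        refine ((dvd_pow_self 2 k.succ_ne_zero).trans ?_).trans
          (Subgroup.card_subgroup_dvd_card (P : Subgroup G))
        rw [hk]
    infer_instance
  · exact h p hp h2 P P.2

end heredity

section perfect

variable {R : Type*} [Group R] [Finite R] [Group.IsPerfect R] [Nontrivial R]

/-- A perfect group with cyclic `p`-subgroups for odd `p` has even order. -/
theorem even_card (h : CycOdd R) : Even (Nat.card R) := by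
  by_contra hc
  haveI := h.isZGroup (Nat.not_even_iff_odd.1 hc)
  exact (IsZGroup.commutator_lt (G := R)).ne (Group.isPerfect_def.1 inferInstance)

theorem sylow_ne_bot (h : CycOdd R) (S : Sylow 2 R) : (S : Subgroup R) ≠ ⊥ := fun hb => by
  haveI : Fact (Nat.Prime 2) := ⟨Nat.prime_two⟩
  refine S.not_dvd_index ?_
  rw [hb, index_bot]
  exact even_iff_two_dvd.1 (even_card h)

/-- No normal 2-complement. -/
theorem not_normal_two_complement (h : CycOdd R) : ¬ Cfsg.HasNormalPComplement 2 R := by
  haveI : Fact (Nat.Prime 2) := ⟨Nat.prime_two⟩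
  rintro ⟨P, N, hN, hc⟩
  have hp : IsPGroup 2 (R ⧸ N) := by
    refine IsPGroup.of_card (n := (Nat.card R).factorization 2) ?_
    rw [← Subgroup.index_eq_card, hc.symm.index_eq_card, Sylow.card_eq_multiplicity]
  haveI := hp.isNilpotent
  rcases subsingleton_or_nontrivial (R ⧸ N) with hs | hs
  · have : N = ⊤ := by
      rw [← index_eq_one, index_eq_card]
      exact Nat.card_of_subsingleton (1 : R ⧸ N)
    subst this
    exact sylow_ne_bot h P (isComplement'_top_left.1 hc)
  · exact Group.IsPerfect.not_isNilpotent (G := R ⧸ N) inferInstance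

/-- A perfect group has no abelian Sylow 2-subgroup whose automorphism group is a 2-group. -/
theorem not_burnside (h : CycOdd R) (S : Sylow 2 R) (hc : IsMulCommutative (S : Subgroup R))
    (ha : IsPGroup 2 (MulAut (S : Subgroup R))) : False := by
  haveI : Fact (Nat.Prime 2) := ⟨Nat.prime_two⟩
  set N := normalizer ((S : Subgroup R) : Set R) with hN
  set C := centralizer ((S : Subgroup R) : Set R) with hC
  have hSC : (S : Subgroup R) ≤ C := fun x hx => mem_centralizer_iff.2 fun y hy =>
    congrArg Subtype.val (hc.is_comm.comm (⟨y, hy⟩ : (S : Subgroup R)) ⟨x, hx⟩)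
  have hle : N ≤ C := by
    let φ : N →* MulAut (S : Subgroup R) := (S : Subgroup R).normalizerMonoidHom
    have hker : φ.ker = C.subgroupOf N := (S : Subgroup R).normalizerMonoidHom_ker
    obtain ⟨k, hk⟩ := IsPGroup.iff_card.1 (ha.to_subgroup φ.range)
    have h1 : C.relIndex N = 2 ^ k := by
      rw [← hk, ← Subgroup.index_ker, hker]; rfl
    have h2 : C.relIndex N ∣ (S : Subgroup R).index :=
      (relIndex_dvd_of_le_left N hSC).trans
        (Dvd.intro (N.index) (relIndex_mul_index le_normalizer))
    rcases k with _ | k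
    · exact relIndex_eq_one.1 (by simpa using h1)
    · exact absurd ((dvd_pow_self 2 k.succ_ne_zero).trans (h1 ▸ h2)) S.not_dvd_index
  have hcompl := MonoidHom.ker_transferSylow_isComplement' S hle
  have hker : (MonoidHom.transferSylow S hle).ker = ⊤ := by
    have hle' : commutator R ≤ (MonoidHom.transferSylow S hle).ker := by
      rw [_root_.commutator_def, Subgroup.commutator_le]
      intro a _ b _
      rw [MonoidHom.mem_ker, map_commutatorElement, commutatorElement_eq_one_iff_mul_comm]
      exact hc.is_comm.comm _ _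
    rw [Group.isPerfect_def.1 inferInstance] at hle'
    exact top_unique hle'
  rw [hker] at hcompl
  exact sylow_ne_bot h S (isComplement'_top_left.1 hcompl)

/-- The Sylow 2-subgroups of a perfect group with almost cyclic Sylow subgroups. -/
theorem sylow_two_cases (hO : CycOdd R) (hT : CycTwo R) (S : Sylow 2 R) :
    (∃ n, 2 ≤ n ∧ Nonempty ((S : Subgroup R) ≃* DihedralGroup n)) ∨
      (∃ n : ℕ, Nonempty ((S : Subgroup R) ≃* QuaternionGroup (2 ^ (n + 1)))) ∨
      Cfsg.IsQuasiDihedral (S : Subgroup R) := by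
  haveI : Fact (Nat.Prime 2) := ⟨Nat.prime_two⟩
  obtain ⟨C, hC, hi⟩ := hT S S.2
  haveI := normal_of_index_dvd_two hi
  obtain ⟨n, hn⟩ := IsPGroup.iff_card.1 S.2
  by_cases hcyc : IsCyclic (S : Subgroup R)
  · exfalso
    exact not_burnside hO S ⟨⟨fun a b => (IsCyclic.commGroup (α := (S : Subgroup R))).mul_comm a b⟩⟩
      (SylowInter.Basic.isPGroup_mulAut_of_cyclic S.2)
  have hi2 : C.index = 2 := by
    rcases (Nat.dvd_prime Nat.prime_two).1 hi with hi | hi
    · rw [index_eq_one] at hi
      subst hi
      exact absurd (isCyclic_of_surjective Subgroup.topEquiv.toMonoidHom (MulEquiv.surjective _)) hcyc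
    · exact hi
  have hn2 : 2 ≤ n := by
    by_contra h'
    rcases (show n = 0 ∨ n = 1 by omega) with rfl | rfl
    · haveI : Subsingleton (S : Subgroup R) := Finite.card_le_one_iff_subsingleton.1 (le_of_eq hn)
      exact hcyc inferInstance
    · exact hcyc (isCyclic_of_prime_card (p := 2) (by simpa using hn))
  have hCc : Nat.card C = 2 ^ (n - 1) := by
    have := C.card_mul_index
    rw [hi2, hn, show n = n - 1 + 1 by omega, pow_succ] at this
    exact Nat.eq_of_mul_eq_mul_right two_pos this
  by_cases h4 : n = 2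
  · subst h4
    left
    haveI hk : IsKleinFour (S : Subgroup R) := ⟨by simpa using hn, by
      rw [← not_isCyclic_iff_exponent_eq_prime Nat.prime_two (by simpa using hn)]
      exact hcyc⟩
    exact ⟨2, le_rfl, IsKleinFour.nonempty_mulEquiv⟩
  have hn3 : 3 ≤ n := by omega
  by_cases hab : IsMulCommutative (S : Subgroup R)
  · exfalso
    refine not_burnside hO S hab (TwoGroups.OddAut.isPGroup_mulAut fun φ hφ => ?_)
    by_contra h1
    have hm : Cfsg.IsMetacyclic (S : Subgroup R) :=
      ⟨C, inferInstance, hC, isCyclic_of_prime_card (p := 2) (by rw [← index_eq_card, hi2])⟩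
    rcases TwoGroups.MetacyclicTwo.aut_cases S.2 hm hφ h1 with ⟨⟨e⟩⟩ | ⟨m, -, ⟨e⟩⟩
    · exact TwoGroups.Recognition.quaternion_two_not_comm ⟨⟨fun a b => e.symm.injective (by
        rw [map_mul, map_mul]; exact hab.is_comm.comm _ _)⟩⟩
    · have h2m : n = 2 * m := by
        have := Nat.card_congr e.toEquiv
        simp [hn, ← pow_add] at this
        omega
      obtain ⟨g, hg⟩ := IsCyclic.exists_ofOrder_eq_natCard (α := C)
      have hg' : orderOf (g : (S : Subgroup R)) ∣ 2 ^ m := by
        rw [← e.orderOf_eq, orderOf_dvd_iff_pow_eq_one]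
        apply Prod.ext <;> apply Multiplicative.toAdd.injective <;>
          simp only [Prod.pow_fst, Prod.pow_snd, toAdd_pow, Prod.fst_one, Prod.snd_one, toAdd_one,
            nsmul_eq_mul, ZMod.natCast_self, zero_mul]
      rw [Subgroup.orderOf_coe, hg, hCc, Nat.pow_dvd_pow_iff_le_right (by norm_num)] at hg'
      omega
  have hna : ∃ x y : (S : Subgroup R), x * y ≠ y * x := by
    by_contra hh
    push Not at hh
    exact hab ⟨⟨hh⟩⟩
  obtain ⟨a, b, hao, hbn, hcase⟩ := Cfsg.Agent.S0646.result n hn3 hn C hC hi2 hna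
  obtain ⟨k, rfl⟩ : ∃ k, n = k + 3 := ⟨n - 3, by omega⟩
  simp only [show k + 3 - 1 = k + 2 by omega, show k + 3 - 2 = k + 1 by omega] at hao hcase
  rcases hcase with ⟨hb, hrel⟩ | ⟨hb, hrel⟩ | ⟨h4', hb, hrel⟩ | ⟨h4', hb, hrel⟩
  · left
    exact ⟨2 ^ (k + 2), Nat.le_self_pow (by omega) 2,
      TwoGroups.Recognition.nonempty_dihedral hao (by rw [← pow_two]; exact hb) hrel hbn
        (by rw [hn]; ring)⟩
  · right; left
    exact ⟨k, TwoGroups.Recognition.nonempty_quaternion (by rw [hao]; ring)
      (by rw [← pow_two]; exact hb) hrel hbn (by rw [hn]; ring)⟩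
  · exfalso
    have hb2 : orderOf b = 2 :=
      orderOf_eq_prime hb fun h => hbn (h ▸ one_mem _)
    refine not_normal_two_complement hO (Cfsg.Agent.S3178.result S (k + 2) (by omega) hn a b a.2 b.2
      (by rw [Subgroup.orderOf_coe, hao]) (by rw [Subgroup.orderOf_coe, hb2]) ?_)
    have := congrArg Subtype.val hrel
    simpa [show k + 2 - 1 = k + 1 by omega, add_comm] using this
  · right; right
    refine ⟨k + 2, by omega, hn, a, b, hao, orderOf_eq_prime hb fun h => hbn (h ▸ one_mem _), ?_⟩
    rw [show k + 2 - 1 = k + 1 by omega]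
    exact hrel

end perfect

end Cfsg.Agent.Lib.CyclicSylows69
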