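import Cfsg.Agent.Lib.CyclicSylows69.Top
import Cfsg.Agent.Lib.SDOrder.Statement

/-!
# S4069 from the interfaces of Lib/SDOrder (helper1)
-/

set_option autoImplicit false
set_option linter.style.haveILetI false

universe u

namespace Cfsg.Agent.Lib.CyclicSylows69

theorem noSemidihedralSimple_of (h : SDOrder.NoSDSimple.{u}) : NoSemidihedralSimple.{u} :=
  fun H _ _ hs _ hodd S hS => by
    haveI := hs
    exact h H hodd S hS

/-- Statement S4069, given the Gorenstein-Walter theorem and `SDOrder.NoSDSimple`. -/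
theorem main' {G : Type u} [Group G] [Finite G] (hGW : GWConsumers12.GWPerfect.{u})
    (hSD : SDOrder.NoSDSimple.{u}) (hns : ¬ Group.IsSolvable G)
    (hodd : ∀ p : ℕ, p.Prime → p ≠ 2 → ∀ P : Sylow p G, IsCyclic P)
    (h2 : ∀ S : Sylow 2 G, ∃ C : Subgroup ↥(S : Subgroup G), IsCyclic C ∧ C.index ∣ 2) :
    ∃ G₀ : Subgroup G, G₀.Normal ∧ G₀.index ∣ 2 ∧
      ∃ X L : Subgroup ↥G₀, X.Normal ∧ L.Normal ∧ X ⊓ L = ⊥ ∧ X ⊔ L = ⊤ ∧ (Nat.card X).Coprime (Nat.card L) ∧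
        Odd (Nat.card X) ∧ (∃ (C : Subgroup ↥X) (_ : C.Normal), IsCyclic C ∧ IsCyclic (↥X ⧸ C)) ∧
        ∃ (p : ℕ) (_ : Fact p.Prime), 5 ≤ p ∧
          (Nonempty (↥L ≃* Matrix.ProjectiveSpecialLinearGroup (Fin 2) (ZMod p)) ∨
           Nonempty (↥L ≃* Matrix.SpecialLinearGroup (Fin 2) (ZMod p))) :=
  main hGW (noSemidihedralSimple_of hSD) hns hodd h2

end Cfsg.Agent.Lib.CyclicSylows69
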