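import Cfsg.Agent.Lib.CyclicSylows69.Basic
import Cfsg.Agent.Lib.PLocal.SLTwo
import Cfsg.Agent.Lib.GWConsumers12.CoverSL2
import Cfsg.Agent.Lib.Linear.Order

/-!
# Two-elements centralising `PSL(2,p)` or `SL(2,p)` in a group with almost cyclic 2-subgroups (helper1)
-/

set_option autoImplicit false
set_option linter.style.haveILetI false

namespace Cfsg.Agent.Lib.CyclicSylows69

open Subgroup

section abstract

variable {P : Type*} [Group P] [Finite P] {A : Subgroup P}

theorem mul_mem_of_index_dvd (hA : A.index ∣ 2) {x y : P} (hx : x ∉ A) (hy : y ∉ A) :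
    x * y ∈ A := by
  rcases (Nat.dvd_prime Nat.prime_two).1 hA with h | h
  · rw [index_eq_one.1 h]; exact mem_top _
  · rw [mul_mem_iff_of_index_two h]
    exact iff_of_false hx hy

theorem invol_eq_of_cyclic (hc : IsCyclic A) {x y : P} (hx : x ∈ A) (hy : y ∈ A)
    (hox : orderOf x = 2) (hoy : orderOf y = 2) : x = y := by
  haveI := hc
  have h1 : orderOf (⟨x, hx⟩ : A) = 2 := by rw [← Subgroup.orderOf_coe]; exact hox
  have h2 : orderOf (⟨y, hy⟩ : A) = 2 := by rw [← Subgroup.orderOf_coe]; exact hoy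
  have he : zpowers (⟨x, hx⟩ : A) = zpowers ⟨y, hy⟩ :=
    GWConsumers12.eq_of_card_eq_cyclic (by rw [Nat.card_zpowers, Nat.card_zpowers, h1, h2])
  have hm : (⟨y, hy⟩ : A) ∈ zpowers ⟨x, hx⟩ := he ▸ mem_zpowers _
  rw [← IsOfFinOrder.mem_powers_iff_mem_zpowers (isOfFinOrder_of_finite _)] at hm
  obtain ⟨k, hk⟩ := hm
  have hk' : x ^ (k % 2) = y := by
    rw [← hox, pow_mod_orderOf]; exact congrArg Subtype.val hk
  rcases Nat.mod_two_eq_zero_or_one k with h | h <;> rw [h] at hk'
  · rw [← hk', pow_zero, orderOf_one] at hoy; omega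
  · simpa using hk'

/-- A third commuting involution lies in the four group. -/
theorem four_absorbs (hc : IsCyclic A) (hA : A.index ∣ 2) {a b t : P} (ha : orderOf a = 2)
    (hb : orderOf b = 2) (hab : a ≠ b) (hcab : Commute a b) (ht : orderOf t = 2)
    (hta : Commute t a) (htb : Commute t b) : t = a ∨ t = b ∨ t = a * b := by
  have sq : ∀ {x : P}, orderOf x = 2 → x * x = 1 := fun {x} hx => by
    rw [← pow_two, ← hx, pow_orderOf_eq_one]
  have inv : ∀ {x : P}, orderOf x = 2 → x⁻¹ = x := fun hx => inv_eq_of_mul_eq_one_left (sq hx)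
  have prod : ∀ {x y : P}, orderOf x = 2 → orderOf y = 2 → Commute x y → x ≠ y →
      orderOf (x * y) = 2 := fun {x y} hx hy hxy hne => by
    refine orderOf_eq_prime ?_ fun h => hne ?_
    · rw [hxy.mul_pow, pow_two, pow_two, sq hx, sq hy, one_mul]
    · rw [← inv hy, ← mul_eq_one_iff_eq_inv, h]
  by_contra hne
  push Not at hne
  obtain ⟨h1, h2, h3⟩ := hne
  have hab2 := prod ha hb hcab hab
  by_cases haA : a ∈ A <;> by_cases htA : t ∈ A
  · exact h1 (invol_eq_of_cyclic hc htA haA ht ha)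
  · by_cases hbA : b ∈ A
    · exact hab (invol_eq_of_cyclic hc haA hbA ha hb)
    · have := invol_eq_of_cyclic hc (mul_mem_of_index_dvd hA htA hbA) haA (prod ht hb htb h2) ha
      exact h3 (by rw [← this, mul_assoc, sq hb, mul_one])
  · by_cases hbA : b ∈ A
    · exact h2 (invol_eq_of_cyclic hc htA hbA ht hb)
    · exact h3 (invol_eq_of_cyclic hc htA (mul_mem_of_index_dvd hA haA hbA) ht hab2)
  · have hm := mul_mem_of_index_dvd hA htA haA
    by_cases hbA : b ∈ A
    · have := invol_eq_of_cyclic hc hm hbA (prod ht ha hta h1) hb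
      refine h3 ?_
      rw [hcab.eq, ← this, mul_assoc, sq ha, mul_one]
    · have := invol_eq_of_cyclic hc hm (mul_mem_of_index_dvd hA haA hbA) (prod ht ha hta h1) hab2
      rw [hcab.eq] at this
      exact h2 (mul_right_cancel this)

/-- An element centralising a quaternion pair with the first element in `A`. -/
theorem quat_absorbs_aux (hP : IsPGroup 2 P) (hc : IsCyclic A) (hA : A.index ∣ 2) {x y c : P}
    (hx : orderOf x = 4) (hxA : x ∈ A) (hrel : y * x * y⁻¹ = x⁻¹) (hcx : Commute c x)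
    (hcy : Commute c y) : c = 1 ∨ c = x ^ 2 := by
  have hne : x⁻¹ ≠ x := fun h => by
    have h' : x ^ 2 = 1 := by rw [pow_two]; nth_rewrite 1 [← h]; exact inv_mul_cancel x
    have := orderOf_dvd_of_pow_eq_one h'
    rw [hx] at this
    exact absurd (Nat.le_of_dvd two_pos this) (by norm_num)
  have hnc : ¬ Commute y x := fun h => hne (by rw [← hrel, h.eq, mul_inv_cancel_right])
  have hcomm : ∀ {u : P}, u ∈ A → Commute u x := fun {u} hu => by
    haveI := hc
    exact congrArg Subtype.val ((IsCyclic.commGroup (α := A)).mul_comm ⟨u, hu⟩ ⟨x, hxA⟩)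
  have hyA : y ∉ A := fun h => hnc (hcomm h)
  have hcA : c ∈ A := by
    by_contra h
    have h1 := hcomm (mul_mem_of_index_dvd hA h hyA)
    refine hnc ?_
    have h2 := hcx.inv_left.mul_left h1
    rwa [inv_mul_cancel_left] at h2
  obtain ⟨k, hk⟩ := IsPGroup.iff_orderOf.1 hP c
  rcases Nat.lt_or_ge k 2 with hk2 | hk2
  · rcases (show k = 0 ∨ k = 1 by omega) with rfl | rfl
    · exact Or.inl (orderOf_eq_one_iff.1 (by simpa using hk))
    · right
      refine invol_eq_of_cyclic hc hcA (pow_mem hxA 2) (by simpa using hk) ?_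
      rw [orderOf_pow, hx]; rfl
  · exfalso
    refine hnc ?_
    haveI := hc
    set c' : A := ⟨c, hcA⟩
    have hc' : orderOf (c' ^ 2 ^ (k - 2)) = 4 := by
      rw [orderOf_pow, ← Subgroup.orderOf_coe]
      show orderOf c / Nat.gcd (orderOf c) _ = 4
      rw [hk, Nat.gcd_eq_right (pow_dvd_pow 2 (by omega)), Nat.pow_div (by omega) two_pos,
        show k - (k - 2) = 2 by omega]
      rfl
    have hx' : orderOf (⟨x, hxA⟩ : A) = 4 := by rw [← Subgroup.orderOf_coe]; exact hx
    have he : zpowers (c' ^ 2 ^ (k - 2)) = zpowers ⟨x, hxA⟩ :=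
      GWConsumers12.eq_of_card_eq_cyclic (by rw [Nat.card_zpowers, Nat.card_zpowers, hc', hx'])
    obtain ⟨i, hi⟩ := mem_zpowers_iff.1 (he ▸ mem_zpowers (⟨x, hxA⟩ : A) :
      (⟨x, hxA⟩ : A) ∈ zpowers (c' ^ 2 ^ (k - 2)))
    have hi' : (c ^ 2 ^ (k - 2)) ^ i = x := congrArg Subtype.val hi
    rw [← hi']
    exact ((hcy.symm).pow_right _).zpow_right i

/-- An element centralising a quaternion group lies in it. -/
theorem quat_absorbs (hP : IsPGroup 2 P) (hc : IsCyclic A) (hA : A.index ∣ 2) {i j c : P}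
    (hi : orderOf i = 4) (hij : j * j = i * i) (hrel : j * i * j⁻¹ = i⁻¹) (hci : Commute c i)
    (hcj : Commute c j) : c = 1 ∨ c = i ^ 2 := by
  have hji : j * i = i⁻¹ * j := mul_inv_eq_iff_eq_mul.1 hrel
  by_cases hiA : i ∈ A
  · exact quat_absorbs_aux hP hc hA hi hiA hrel hci hcj
  by_cases hjA : j ∈ A
  · have hjo : orderOf j = 4 := by
      have h1 : orderOf (j ^ 2) = 2 := by rw [pow_two, hij, ← pow_two, orderOf_pow, hi]; rfl
      refine orderOf_eq_prime_pow (p := 2) (n := 1) ?_ ?_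
      · rw [pow_one]
        intro h
        rw [h, orderOf_one] at h1
        omega
      · have h2 := pow_orderOf_eq_one (j ^ 2)
        rw [h1] at h2
        rwa [show (2 : ℕ) ^ (1 + 1) = 2 * 2 by rfl, pow_mul]
    have hrel' : i * j * i⁻¹ = j⁻¹ := by
      have e : i * j = j * i⁻¹ := by
        calc i * j = i * (j * i) * i⁻¹ := by group
          _ = i * (i⁻¹ * j) * i⁻¹ := by rw [hji]
          _ = j * i⁻¹ := by group
      calc i * j * i⁻¹ = j * (i * i)⁻¹ := by rw [e]; group
        _ = j * (j * j)⁻¹ := by rw [hij]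
        _ = j⁻¹ := by group
    rcases quat_absorbs_aux hP hc hA hjo hjA hrel' hcj hci with h | h
    · exact Or.inl h
    · exact Or.inr (h.trans (by rw [pow_two, pow_two, hij]))
  have hm := mul_mem_of_index_dvd hA hiA hjA
  have hsq : (i * j) * (i * j) = i * i := by
    calc (i * j) * (i * j) = i * (j * i) * j := by group
      _ = j * j := by rw [hji]; group
      _ = i * i := hij
  have hmo : orderOf (i * j) = 4 := by
    have h1 : orderOf ((i * j) ^ 2) = 2 := by rw [pow_two, hsq, ← pow_two, orderOf_pow, hi]; rfl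
    refine orderOf_eq_prime_pow (p := 2) (n := 1) ?_ ?_
    · rw [pow_one]
      intro h
      rw [h, orderOf_one] at h1
      omega
    · have h2 := pow_orderOf_eq_one ((i * j) ^ 2)
      rw [h1] at h2
      rwa [show (2 : ℕ) ^ (1 + 1) = 2 * 2 by rfl, pow_mul]
  have hrel' : i * (i * j) * i⁻¹ = (i * j)⁻¹ := by
    refine eq_inv_of_mul_eq_one_left ?_
    calc i * (i * j) * i⁻¹ * (i * j) = (i * i) * (j * j) := by group
      _ = (i * i) * (i * i) := by rw [hij]
      _ = i ^ 4 := by simp only [pow_succ, pow_zero, one_mul, mul_assoc]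
      _ = 1 := by rw [← hi, pow_orderOf_eq_one]
  rcases quat_absorbs_aux hP hc hA hmo hm hrel' (hci.mul_right hcj) hci with h | h
  · exact Or.inl h
  · exact Or.inr (h.trans (by rw [pow_two, pow_two, hsq]))

end abstract

variable {G : Type*} [Group G] [Finite G]

/-- Commuting 2-elements and an inverting pair generate a 2-group with a cyclic subgroup of index
at most two. -/
theorem exists_two_group (hT : CycTwo G) {i j c : G} {a b d : ℕ} (hi : i ^ 2 ^ a = 1)
    (hj : j ^ 2 ^ b = 1) (hc : c ^ 2 ^ d = 1) (hrel : j * i * j⁻¹ = i⁻¹) (hci : Commute c i)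
    (hcj : Commute c j) :
    ∃ (P : Subgroup G) (A : Subgroup P), IsPGroup 2 P ∧ IsCyclic A ∧ A.index ∣ 2 ∧
      i ∈ P ∧ j ∈ P ∧ c ∈ P := by
  haveI : Fact (Nat.Prime 2) := ⟨Nat.prime_two⟩
  have hz : ∀ {g : G} {m : ℕ}, g ^ 2 ^ m = 1 → IsPGroup 2 (zpowers g) := fun {g m} hg => by
    obtain ⟨l, -, hl⟩ := (Nat.dvd_prime_pow Nat.prime_two).1 (orderOf_dvd_of_pow_eq_one hg)
    exact IsPGroup.of_card (n := l) (by rw [Nat.card_zpowers, hl])
  have h1 : IsPGroup 2 ↥(zpowers j ⊔ zpowers i : Subgroup G) := by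
    refine (hz hj).to_sup_of_normal_right' (hz hi) ?_
    rw [zpowers_le, mem_normalizer_iff_map_conj_eq, MonoidHom.map_zpowers]
    show zpowers (j * i * j⁻¹) = _
    rw [hrel, zpowers_inv]
  have h2 : IsPGroup 2 ↥(zpowers c ⊔ (zpowers j ⊔ zpowers i) : Subgroup G) := by
    refine (hz hc).to_sup_of_normal_right' h1 (le_trans ?_ (Subgroup.centralizer_le_normalizer _))
    rw [zpowers_le]
    have : zpowers j ⊔ zpowers i ≤ centralizer ({c} : Set G) := sup_le
      (zpowers_le.2 (mem_centralizer_singleton_iff.2 hcj.symm.eq))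
      (zpowers_le.2 (mem_centralizer_singleton_iff.2 hci.symm.eq))
    exact mem_centralizer_iff.2 fun g hg => mem_centralizer_singleton_iff.1 (this hg)
  obtain ⟨A, hA, hAi⟩ := hT _ h2
  exact ⟨_, A, h2, hA, hAi, mem_sup_right (mem_sup_right (mem_zpowers i)),
    mem_sup_right (mem_sup_left (mem_zpowers j)), mem_sup_left (mem_zpowers c)⟩

/-- An inverting pair of elements of order four in `SL(2,p)`. -/
theorem exists_quat_SL (p : ℕ) [Fact p.Prime] (hp : 3 ≤ p) :
    ∃ i j : Matrix.SpecialLinearGroup (Fin 2) (ZMod p), orderOf i = 4 ∧ j * j = i * i ∧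
      j * i * j⁻¹ = i⁻¹ ∧ i * i ∈ center (Matrix.SpecialLinearGroup (Fin 2) (ZMod p)) ∧
      i⁻¹ * j ∉ center (Matrix.SpecialLinearGroup (Fin 2) (ZMod p)) ∧
      i ∉ center (Matrix.SpecialLinearGroup (Fin 2) (ZMod p)) := by
  obtain ⟨a, b, hab⟩ := ZMod.sq_add_sq p (-1)
  let I : Matrix.SpecialLinearGroup (Fin 2) (ZMod p) := ⟨!![0, -1; 1, 0], by simp [Matrix.det_fin_two]⟩
  let J : Matrix.SpecialLinearGroup (Fin 2) (ZMod p) := ⟨!![a, b; b, -a], by
    rw [Matrix.det_fin_two]; simp; linear_combination -hab⟩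
  have h2 : (-1 : ZMod p) ≠ 1 := by
    intro h
    have h' : ((2 : ℕ) : ZMod p) = 0 := by push_cast; linear_combination -h
    rw [ZMod.natCast_eq_zero_iff] at h'
    have := Nat.le_of_dvd two_pos h'
    omega
  have hII : (I * I).1 = !![-1, 0; 0, -1] := by
    rw [PLocal.SLTwo.val_mul]; simp [I, Matrix.mul_fin_two]
  have hJJ : J * J = I * I := Subtype.ext (by
    rw [hII, PLocal.SLTwo.val_mul]
    simp [J, Matrix.mul_fin_two]
    refine ⟨⟨?_, ?_⟩, ?_, ?_⟩ <;> first | linear_combination hab | linear_combination -hab | ring)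
  have hrel : J * I = I⁻¹ * J := by
    rw [← mul_left_cancel_iff (a := I), mul_inv_cancel_left]
    refine Subtype.ext ?_
    simp only [PLocal.SLTwo.val_mul]
    simp [I, J, Matrix.mul_fin_two]
  refine ⟨I, J, ?_, hJJ, by rw [hrel, mul_inv_cancel_right], ?_, ?_, ?_⟩
  · refine orderOf_eq_prime_pow (p := 2) (n := 1) ?_ ?_
    · rw [pow_one, pow_two]
      intro h
      have := congrArg (fun M : Matrix (Fin 2) (Fin 2) (ZMod p) => M 0 0)
        (hII.symm.trans (congrArg Subtype.val h))
      exact h2 (by simpa using this)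
    · refine Subtype.ext ?_
      rw [show (2 : ℕ) ^ (1 + 1) = 2 * 2 by rfl, pow_mul, pow_two, pow_two, PLocal.SLTwo.val_mul, hII]
      simp [Matrix.mul_fin_two, Matrix.one_fin_two]
  · rw [Subgroup.mem_center_iff]
    intro M
    refine Subtype.ext ?_
    rw [PLocal.SLTwo.val_mul, PLocal.SLTwo.val_mul (I * I), hII,
      show (!![-1, 0; 0, -1] : Matrix (Fin 2) (Fin 2) (ZMod p)) = -1 by simp [Matrix.one_fin_two]]
    simp
  · intro h
    have h' := Subgroup.mem_center_iff.1 h I
    rw [mul_inv_cancel_left, mul_assoc, hrel, ← mul_assoc] at h'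
    have h4 : I⁻¹ * I⁻¹ = 1 := mul_right_cancel (b := J) (by rw [one_mul]; exact h'.symm)
    rw [← mul_inv_rev, inv_eq_one] at h4
    have := congrArg (fun M : Matrix (Fin 2) (Fin 2) (ZMod p) => M 0 0)
      (hII.symm.trans (congrArg Subtype.val h4))
    exact h2 (by simpa using this)
  · intro h
    have h' : J * I = I * J := Subgroup.mem_center_iff.1 h J
    rw [hrel] at h'
    have h4 : I⁻¹ = I := mul_right_cancel h'
    rw [inv_eq_iff_mul_eq_one] at h4
    have := congrArg (fun M : Matrix (Fin 2) (Fin 2) (ZMod p) => M 0 0)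
      (hII.symm.trans (congrArg Subtype.val h4))
    exact h2 (by simpa using this)

/-- Two-elements centralising the subgroup lie in it. -/
theorem two_elt_mem (hT : CycTwo G) {R : Subgroup G} {p : ℕ} [Fact p.Prime] (hp : 5 ≤ p)
    (h : Nonempty (R ≃* Matrix.ProjectiveSpecialLinearGroup (Fin 2) (ZMod p)) ∨
      Nonempty (R ≃* Matrix.SpecialLinearGroup (Fin 2) (ZMod p)))
    (hcen : Nonempty (R ≃* Matrix.ProjectiveSpecialLinearGroup (Fin 2) (ZMod p)) →
      center R = ⊥) {c : G} {d : ℕ} (hc : c ^ 2 ^ d = 1) (hcR : c ∈ centralizer (R : Set G)) :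
    c ∈ R := by
  haveI : Fact (Nat.Prime 2) := ⟨Nat.prime_two⟩
  obtain ⟨I, J, hI, hJJ, hrel, hz, hIJ, hIc⟩ := exists_quat_SL p (by omega)
  have hcc : ∀ r : R, Commute c (r : G) := fun r => (mem_centralizer_iff.1 hcR r r.2).symm
  rcases h with ⟨⟨e⟩⟩ | ⟨⟨e⟩⟩
  · by_contra hcn
    have hz1 := hcen ⟨e⟩
    -- an involution centralising the four group
    obtain ⟨m, hm⟩ : ∃ m, orderOf c = 2 ^ (m + 1) := by
      obtain ⟨l, -, hl⟩ := (Nat.dvd_prime_pow Nat.prime_two).1 (orderOf_dvd_of_pow_eq_one hc)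
      rcases l with _ | l
      · rw [pow_zero, orderOf_eq_one_iff] at hl
        exact absurd (hl ▸ one_mem R) hcn
      · exact ⟨l, hl⟩
    set t := c ^ 2 ^ m with ht
    have hto : orderOf t = 2 := by
      rw [ht, orderOf_pow, hm, pow_succ', Nat.gcd_eq_right (dvd_mul_left _ _), Nat.mul_div_cancel]
      positivity
    have htt : ∀ r : R, Commute t (r : G) := fun r => (hcc r).pow_left _
    set q := QuotientGroup.mk' (center (Matrix.SpecialLinearGroup (Fin 2) (ZMod p)))
    have hq : ∀ x, q x = 1 ↔ x ∈ center (Matrix.SpecialLinearGroup (Fin 2) (ZMod p)) :=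
      fun x => QuotientGroup.eq_one_iff x
    let a : G := (e.symm (q I) : R)
    let b : G := (e.symm (q J) : R)
    have key : ∀ {x y : Matrix.ProjectiveSpecialLinearGroup (Fin 2) (ZMod p)},
        ((e.symm x : R) : G) = ((e.symm y : R) : G) → x = y := fun h => e.symm.injective (Subtype.ext h)
    have hqI : q I * q I = 1 := by rw [← map_mul, hq]; exact hz
    have hqJ : q J * q J = 1 := by rw [← map_mul, hq, hJJ]; exact hz
    have hordof : ∀ {x : Matrix.ProjectiveSpecialLinearGroup (Fin 2) (ZMod p)}, x * x = 1 → x ≠ 1 →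
        orderOf ((e.symm x : R) : G) = 2 := fun {x} h2 h1 => by
      rw [Subgroup.orderOf_coe, MulEquiv.orderOf_eq]
      exact orderOf_eq_prime (by rw [pow_two]; exact h2) h1
    have hqI1 : q I ≠ 1 := by rw [Ne, hq]; exact hIc
    have hqne : q I ≠ q J := fun h => hIJ ((hq _).1 (by rw [map_mul, map_inv, h, inv_mul_cancel]))
    have hqJ1 : q J ≠ 1 := fun h => by
      have h' := (hq J).1 h
      have := Subgroup.mem_center_iff.1 h' I
      rw [show J * I * J⁻¹ = I from by rw [← this, mul_inv_cancel_right]] at hrel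
      exact hqne (by
        exfalso
        have h4 : I ^ 2 = 1 := by rw [pow_two]; nth_rewrite 1 [hrel]; exact inv_mul_cancel I
        have := orderOf_dvd_of_pow_eq_one h4
        rw [hI] at this
        exact absurd (Nat.le_of_dvd two_pos this) (by norm_num))
    have hcomm : Commute (q I) (q J) := by
      have h1 : q J * q I * (q J)⁻¹ = (q I)⁻¹ := by rw [← map_inv, ← map_inv, ← map_mul, ← map_mul, hrel]
      rw [inv_eq_of_mul_eq_one_left hqI] at h1
      exact (mul_inv_eq_iff_eq_mul.1 h1).symm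
    have hab : Commute a b := (hcomm.map e.symm.toMonoidHom).map R.subtype
    obtain ⟨P, A, hP, hA, hAi, haP, hbP, htP⟩ := exists_two_group hT (i := a) (j := b) (c := t)
      (a := 1) (b := 1) (d := 1) (by rw [pow_one, ← hordof hqI hqI1, pow_orderOf_eq_one])
      (by rw [pow_one, ← hordof hqJ hqJ1, pow_orderOf_eq_one])
      (by rw [pow_one, ← hto, pow_orderOf_eq_one])
      (by rw [← hab.eq, mul_inv_cancel_right]
          exact (inv_eq_of_mul_eq_one_left (by
            rw [← pow_two, ← hordof hqI hqI1, pow_orderOf_eq_one])).symm)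
      (htt _) (htt _)
    have := four_absorbs hA hAi (a := (⟨a, haP⟩ : P)) (b := ⟨b, hbP⟩) (t := ⟨t, htP⟩)
      (by rw [← Subgroup.orderOf_coe]; exact hordof hqI hqI1)
      (by rw [← Subgroup.orderOf_coe]; exact hordof hqJ hqJ1)
      (fun h => hqne (key (congrArg (fun z : P => (z : G)) h))) (Subtype.ext hab.eq)
      (by rw [← Subgroup.orderOf_coe]; exact hto) (Subtype.ext (htt _).eq) (Subtype.ext (htt _).eq)
    have htR : t ∈ R := by
      rcases this with h | h | h <;> rw [show t = _ from congrArg Subtype.val h]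
      exacts [(e.symm (q I)).2, (e.symm (q J)).2, mul_mem (e.symm (q I)).2 (e.symm (q J)).2]
    have htc : (⟨t, htR⟩ : R) ∈ center R :=
      Subgroup.mem_center_iff.2 fun r => Subtype.ext (htt r).eq.symm
    rw [hz1, mem_bot] at htc
    rw [show t = 1 from congrArg Subtype.val htc, orderOf_one] at hto
    omega
  · let i : G := (e.symm I : R)
    let j : G := (e.symm J : R)
    have hio : orderOf i = 4 := by rw [Subgroup.orderOf_coe, MulEquiv.orderOf_eq, hI]
    have hij : j * j = i * i := by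
      rw [← Subgroup.coe_mul, ← Subgroup.coe_mul, ← map_mul, ← map_mul, hJJ]
    have hrel' : j * i * j⁻¹ = i⁻¹ := by
      rw [← Subgroup.coe_mul, ← Subgroup.coe_inv, ← Subgroup.coe_mul, ← Subgroup.coe_inv, ← map_mul,
        ← map_inv, ← map_mul, ← map_inv, hrel]
    have hj4 : j ^ 2 ^ 2 = 1 := by
      rw [show (2 : ℕ) ^ 2 = 2 * 2 by rfl, pow_mul, pow_two j, hij, ← pow_two i, ← pow_mul,
        show 2 * 2 = 4 by rfl, ← hio, pow_orderOf_eq_one]
    obtain ⟨P, A, hP, hA, hAi, hiP, hjP, hcP⟩ := exists_two_group hT (i := i) (j := j) (c := c)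
      (a := 2) (by rw [show (2 : ℕ) ^ 2 = 4 by rfl, ← hio, pow_orderOf_eq_one]) hj4 hc hrel'
      (hcc _) (hcc _)
    rcases quat_absorbs hP hA hAi (i := (⟨i, hiP⟩ : P)) (j := ⟨j, hjP⟩) (c := ⟨c, hcP⟩)
      (by rw [← Subgroup.orderOf_coe]; exact hio) (Subtype.ext hij) (Subtype.ext hrel')
      (Subtype.ext (hcc _).eq) (Subtype.ext (hcc _).eq) with h | h
    · rw [show c = 1 from congrArg Subtype.val h]; exact one_mem R
    · rw [show c = i ^ 2 from congrArg Subtype.val h]; exact pow_mem (e.symm I).2 2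

end Cfsg.Agent.Lib.CyclicSylows69
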