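import Cfsg.Agent.Lib.CyclicSylows69.Basic
import Cfsg.Agent.Lib.GWConsumers12.RankOne
import Cfsg.Agent.Lib.TwoGroups.SimpleSection
import Cfsg.Agent.Lib.RealGraph56.OddNormal
import Cfsg.Agent.Lib.PLocal.SLTwo
import Cfsg.Agent.Lib.SmallGroups.ProjLine
import Cfsg.Agent.Lib.GorensteinWalter.Sylow
import Cfsg.Agent.S0102

/-!
# Perfect groups with cyclic Sylow subgroups for odd primes (helper1)
-/

set_option autoImplicit false
set_option linter.style.haveILetI false

universe u

namespace Cfsg.Agent.Lib.CyclicSylows69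

open Subgroup Matrix

/-- No finite non-abelian simple group has semidihedral Sylow 2-subgroups and cyclic Sylow subgroups
for the odd primes. -/
def NoSemidihedralSimple : Prop :=
  ∀ (H : Type u) [Group H] [Finite H], IsSimpleGroup H → ¬ IsMulCommutative H →
    (∀ p : ℕ, p.Prime → p ≠ 2 → ∀ P : Sylow p H, IsCyclic P) →
    ∀ S : Sylow 2 H, Cfsg.IsQuasiDihedral (S : Subgroup H) → False

theorem CycOdd.congr {A B : Type*} [Group A] [Finite A] [Group B] (h : CycOdd A) (e : A ≃* B) :
    CycOdd B :=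
  h.of_surjective e.toMonoidHom e.surjective

theorem not_cycOdd_alt_seven (h : CycOdd (alternatingGroup (Fin 7))) : False := by
  let a : alternatingGroup (Fin 7) := ⟨Equiv.swap 0 1 * Equiv.swap 1 2, by
    rw [Equiv.Perm.mem_alternatingGroup]; decide⟩
  let b : alternatingGroup (Fin 7) := ⟨Equiv.swap 3 4 * Equiv.swap 4 5, by
    rw [Equiv.Perm.mem_alternatingGroup]; decide⟩
  haveI : Fact (Nat.Prime 3) := ⟨Nat.prime_three⟩
  have hab : Commute a b := by
    show a * b = b * a
    decide
  have ha : a ^ 3 = 1 := by decide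
  have hb : b ^ 3 = 1 := by decide
  let P := Subgroup.closure ({a, b} : Set (alternatingGroup (Fin 7)))
  haveI hPc : IsMulCommutative P := Subgroup.isMulCommutative_closure (by
    rintro x (rfl | rfl) y (rfl | rfl) <;> first | rfl | exact hab.eq | exact hab.eq.symm)
  have hPe : ∀ x ∈ P, x ^ 3 = 1 := by
    intro x hx
    induction hx using Subgroup.closure_induction with
    | mem x hx => rcases hx with rfl | rfl <;> assumption
    | one => exact one_pow 3
    | mul x y hx hy ihx ihy =>
      have hxy : Commute x y := congrArg Subtype.val (hPc.is_comm.comm ⟨x, hx⟩ ⟨y, hy⟩)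
      rw [hxy.mul_pow, ihx, ihy, one_mul]
    | inv x _ ih => rw [inv_pow, ih, inv_one]
  have hp : IsPGroup 3 P := fun x => ⟨1, Subtype.ext (by simpa using hPe x x.2)⟩
  haveI := h 3 Nat.prime_three (by norm_num) P hp
  let a' : P := ⟨a, Subgroup.subset_closure (Or.inl rfl)⟩
  let b' : P := ⟨b, Subgroup.subset_closure (Or.inr rfl)⟩
  have ha' : orderOf a' = 3 :=
    orderOf_eq_prime (Subtype.ext ha) (fun e => absurd (congrArg Subtype.val e) (show a ≠ 1 by decide))
  have hb' : orderOf b' = 3 :=
    orderOf_eq_prime (Subtype.ext hb) (fun e => absurd (congrArg Subtype.val e) (show b ≠ 1 by decide))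
  have he : zpowers a' = zpowers b' :=
    GWConsumers12.eq_of_card_eq_cyclic (by rw [Nat.card_zpowers, Nat.card_zpowers, ha', hb'])
  have hmem : b' ∈ zpowers a' := he ▸ mem_zpowers b'
  rw [← IsOfFinOrder.mem_powers_iff_mem_zpowers (isOfFinOrder_of_finite a')] at hmem
  obtain ⟨k, hk⟩ := hmem
  have hk' : a ^ (k % 3) = b := by
    have h1 : a ^ k = b := congrArg Subtype.val hk
    have h2 : orderOf a = 3 := (Subgroup.orderOf_coe a').trans ha'
    rw [← h1, ← h2, pow_mod_orderOf]
  have h3 : k % 3 < 3 := Nat.mod_lt _ (by norm_num)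
  interval_cases (k % 3) <;> revert hk' <;> decide

/-- The field of a `PSL(2, F)` with cyclic odd Sylow subgroups has prime order. -/
theorem prime_card {F : Type} [Field F] [Fintype F] (hodd : Odd (Fintype.card F))
    (h : CycOdd (Matrix.ProjectiveSpecialLinearGroup (Fin 2) F)) : (Fintype.card F).Prime := by
  classical
  obtain ⟨p, hp⟩ := CharP.exists F
  haveI hpF : Fact p.Prime := ⟨CharP.char_is_prime F p⟩
  obtain ⟨f, hf, hcard⟩ := FiniteField.card F p
  have hp2 : p ≠ 2 := by
    rintro rfl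
    rw [hcard] at hodd
    exact Nat.not_even_iff_odd.2 hodd (even_iff_two_dvd.2 (dvd_pow_self 2 f.ne_zero))
  let φ : Multiplicative F →* Matrix.ProjectiveSpecialLinearGroup (Fin 2) F :=
    { toFun := fun x => QuotientGroup.mk (PLocal.SLTwo.up (Multiplicative.toAdd x))
      map_one' := by rw [toAdd_one, PLocal.SLTwo.up_zero]; rfl
      map_mul' := fun x y => by rw [toAdd_mul, PLocal.SLTwo.up_add]; rfl }
  have hφ : Function.Injective φ := by
    rw [injective_iff_map_eq_one]
    intro x hx
    have hm := (QuotientGroup.eq_one_iff _).1 hx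
    obtain ⟨r, -, hr⟩ := Matrix.SpecialLinearGroup.mem_center_iff.1 hm
    have := congrArg (fun M : Matrix (Fin 2) (Fin 2) F => M 0 1) hr
    simp [PLocal.SLTwo.up] at this
    exact Multiplicative.toAdd.injective (by simpa using this.symm)
  have hP : IsPGroup p φ.range := by
    refine IsPGroup.of_card (n := f) ?_
    rw [← Nat.card_congr (MonoidHom.ofInjective hφ).toEquiv,
      Nat.card_congr Multiplicative.toAdd, Nat.card_eq_fintype_card, hcard]
  haveI := h p hpF.out hp2 φ.range hP
  haveI : IsCyclic (Multiplicative F) :=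
    isCyclic_of_injective (MonoidHom.ofInjective hφ).toMonoidHom (MulEquiv.injective _)
  have he : Monoid.exponent (Multiplicative F) = Fintype.card F := by
    rw [IsCyclic.exponent_eq_card, Nat.card_congr Multiplicative.toAdd, Nat.card_eq_fintype_card]
  have hd : Fintype.card F ∣ p := he ▸ Monoid.exponent_dvd_of_forall_pow_eq_one (fun x =>
    Multiplicative.toAdd.injective (by rw [toAdd_pow, toAdd_one, nsmul_eq_mul, CharP.cast_eq_zero, zero_mul]))
  rcases (Nat.dvd_prime hpF.out).1 hd with h1 | h1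
  · exact absurd h1 (Fintype.one_lt_card (α := F)).ne'
  · exact h1 ▸ hpF.out

theorem sl_congr {F F' : Type} [Field F] [Field F'] (e : F ≃+* F') :
    Nonempty (Matrix.SpecialLinearGroup (Fin 2) F ≃* Matrix.SpecialLinearGroup (Fin 2) F') :=
  ⟨{ toFun := Matrix.SpecialLinearGroup.map e.toRingHom
     invFun := Matrix.SpecialLinearGroup.map e.symm.toRingHom
     left_inv := fun g => by ext i j; simp
     right_inv := fun g => by ext i j; simp
     map_mul' := map_mul _ }⟩

variable {R : Type u} [Group R] [Finite R] [Group.IsPerfect R] [Nontrivial R]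

/-- The quotient by the odd core. -/
theorem quotient_cases (hGW : GWConsumers12.GWPerfect.{u}) (hSD : NoSemidihedralSimple.{u})
    (hO : CycOdd R) (hT : CycTwo R) :
    ∃ (p : ℕ) (_ : Fact p.Prime), 5 ≤ p ∧
      (Nonempty (R ⧸ Cfsg.oddCore R ≃* Matrix.ProjectiveSpecialLinearGroup (Fin 2) (ZMod p)) ∨
       Nonempty (R ⧸ Cfsg.oddCore R ≃* Matrix.SpecialLinearGroup (Fin 2) (ZMod p))) := by
  classical
  haveI : Fact (Nat.Prime 2) := ⟨Nat.prime_two⟩
  set π := QuotientGroup.mk' (Cfsg.oddCore R) with hπ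
  have hQ : CycOdd (R ⧸ Cfsg.oddCore R) :=
    hO.of_surjective π (QuotientGroup.mk'_surjective _)
  have finish : ∀ (F : Type) [Field F] [Fintype F], Odd (Fintype.card F) → 3 < Fintype.card F →
      CycOdd (Matrix.ProjectiveSpecialLinearGroup (Fin 2) F) →
      ∃ (p : ℕ) (_ : Fact p.Prime), 5 ≤ p ∧ Nonempty (F ≃+* ZMod p) := by
    intro F _ _ hodd h3 hc
    have hp := prime_card hodd hc
    haveI : Fact (Fintype.card F).Prime := ⟨hp⟩
    refine ⟨Fintype.card F, inferInstance, ?_, ⟨FiniteField.ringEquivOfCardEq (ZMod.card _).symm⟩⟩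
    by_contra hlt
    have h4 : Fintype.card F = 4 := by omega
    rw [h4] at hp
    exact absurd hp (by norm_num)
  let S : Sylow 2 R := default
  rcases sylow_two_cases hO hT S with ⟨n, hn, hd⟩ | ⟨n, ⟨e⟩⟩ | hsd
  · rcases hGW R S n hn hd with ⟨F, _, _, hodd, h3, ⟨e⟩⟩ | ⟨⟨e⟩⟩
    · obtain ⟨p, hp, h5, ⟨σ⟩⟩ := finish F hodd h3 (hQ.congr e)
      obtain ⟨e'⟩ := SmallGroups.ProjLine.psl_congr σ
      exact ⟨p, hp, h5, Or.inl ⟨e.trans e'⟩⟩
    · exact (not_cycOdd_alt_seven (hQ.congr e)).elim
  · have hr1 : Cfsg.PRankLE 2 1 R := by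
      intro A hA hA2
      have hAp : IsPGroup 2 A := fun x => ⟨1, Subtype.ext (by simpa using hA2 x x.2)⟩
      obtain ⟨T, hAT⟩ := hAp.exists_le_sylow
      haveI : NeZero (2 ^ (n + 1)) := ⟨by positivity⟩
      let e' := (T.equiv S).trans e
      by_contra hgt
      rw [pow_one, not_le] at hgt
      haveI : Nontrivial A := Finite.one_lt_card_iff_nontrivial.1 (by omega)
      obtain ⟨x, hx⟩ := exists_ne (1 : A)
      have hox : ∀ y : A, y ≠ 1 → orderOf (Subgroup.inclusion hAT y) = 2 := fun y hy =>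
        orderOf_eq_prime (Subtype.ext (hA2 y y.2)) fun h' =>
          hy (Subgroup.inclusion_injective hAT (h'.trans (map_one _).symm))
      have hsub : ∀ y : A, y = 1 ∨ y = x := fun y => by
        by_cases hy : y = 1
        · exact Or.inl hy
        · exact Or.inr (Subgroup.inclusion_injective hAT
            (TwoGroups.Recognition.invol_unique e' (hox y hy) (hox x hx)))
      have h2 : Nat.card A = 2 := (Nat.card_eq_two_iff' (1 : A)).2
        ⟨x, hx, fun y hy => (hsub y).resolve_left hy⟩
      omega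
    rcases GWConsumers12.main hGW inferInstance hr1 (even_card hO) with
      ⟨F, _, _, hodd, h3, ⟨r⟩⟩ | ⟨-, ⟨r⟩, -⟩
    · have hc : CycOdd (Matrix.ProjectiveSpecialLinearGroup (Fin 2) F) :=
        (hQ.congr r).of_surjective (QuotientGroup.mk' _) (QuotientGroup.mk'_surjective _)
      obtain ⟨p, hp, h5, ⟨σ⟩⟩ := finish F hodd h3 hc
      obtain ⟨e'⟩ := sl_congr σ
      exact ⟨p, hp, h5, Or.inr ⟨r.trans e'⟩⟩
    · exact (not_cycOdd_alt_seven ((hQ.of_surjective (QuotientGroup.mk' _)
        (QuotientGroup.mk'_surjective _)).congr r)).elim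
  · exfalso
    obtain ⟨L, hLn, hLi, hLs, hLa⟩ := TwoGroups.SimpleSection.exists_simple_quotient S (Or.inl hsd)
      (GorensteinWalter.no_index_two (G := R))
    haveI := hLn
    have htop : L = ⊤ := by
      by_contra hne
      haveI : Nontrivial ((R ⧸ Cfsg.oddCore R) ⧸ L) := by
        rw [← Finite.one_lt_card_iff_nontrivial, ← Subgroup.index_eq_card]
        have := (Subgroup.index_eq_one (H := L)).not.2 hne
        have := Subgroup.index_ne_zero_of_finite (H := L)
        omega
      haveI := (hQ.of_surjective (QuotientGroup.mk' L) (QuotientGroup.mk'_surjective L)).isZGroup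
        (by rwa [← Subgroup.index_eq_card])
      exact (IsZGroup.commutator_lt (G := (R ⧸ Cfsg.oddCore R) ⧸ L)).ne
        (Group.isPerfect_def.1 inferInstance)
    subst htop
    haveI := hLs
    have hnc : ¬ IsMulCommutative (R ⧸ Cfsg.oddCore R) := fun hc =>
      hLa ⟨⟨fun a b => Subtype.ext (hc.is_comm.comm _ _)⟩⟩
    have hinj := GWConsumers12.inj_on_two (N := Cfsg.oddCore R) (P := (S : Subgroup R)) S.2
      ZStar.Elements.oddCore_odd
    have hTeq : (π.comp (S : Subgroup R).subtype).range
        = ((S.mapSurjective (QuotientGroup.mk'_surjective _) : Sylow 2 (R ⧸ Cfsg.oddCore R)) :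
            Subgroup (R ⧸ Cfsg.oddCore R)) := by
      rw [MonoidHom.range_comp, Subgroup.range_subtype]; rfl
    refine hSD (R ⧸ Cfsg.oddCore R) Subgroup.topEquiv.symm.isSimpleGroup hnc ?_
      (S.mapSurjective (QuotientGroup.mk'_surjective _))
      (TwoGroups.NoIndexTwo.isQuasiDihedral_map
        ((MonoidHom.ofInjective hinj).trans (MulEquiv.subgroupCongr hTeq)) hsd)
    exact fun p hp h2 P => hQ p hp h2 P P.2

/-- The odd core is trivial. -/
theorem oddCore_eq_bot (hO : CycOdd R) : Cfsg.oddCore R = ⊥ := by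
  have hodd : Odd (Nat.card (Cfsg.oddCore R)) := ZStar.Elements.oddCore_odd
  set K := Cfsg.oddCore R with hK
  haveI := (hO.subgroup K).isZGroup hodd
  haveI hKc : IsCyclic (commutator K) := IsZGroup.isCyclic_commutator K
  have hperf : commutator R = ⊤ := Group.isPerfect_def.1 inferInstance
  have hcen : ∀ (D : Subgroup R), D.Normal → IsCyclic D → D ≤ center R := by
    intro D hDn hDc y hy
    obtain ⟨g, hg⟩ := hDc.exists_generator
    have hgc : (g : R) ∈ center R := RealGraph56.mem_center_of_zpowers_normal hperf fun r => by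
      obtain ⟨i, hi⟩ := mem_zpowers_iff.1 (hg ⟨_, hDn.conj_mem _ g.2 r⟩)
      exact mem_zpowers_iff.2 ⟨i, congrArg Subtype.val hi⟩
    obtain ⟨i, hi⟩ := mem_zpowers_iff.1 (hg ⟨y, hy⟩)
    rw [show y = (g : R) ^ i from (congrArg Subtype.val hi).symm]
    exact zpow_mem hgc i
  have hC : ∀ c ∈ commutator K, (c : R) ∈ center R := by
    intro c hc
    refine hcen ((commutator K).map K.subtype) inferInstance ?_ ⟨c, hc, rfl⟩
    exact isCyclic_of_surjective
      ((commutator K).equivMapOfInjective K.subtype K.subtype_injective).toMonoidHom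
      (MulEquiv.surjective _)
  have hKab : ∀ x y : K, x * y = y * x :=
    commutative_of_cyclic_center_quotient (Abelianization.of (G := K)) (by
      rw [Abelianization.ker_of]
      exact fun c hc => mem_center_iff.2 fun k => Subtype.ext (mem_center_iff.1 (hC c hc) k))
  haveI : IsMulCommutative K := ⟨⟨hKab⟩⟩
  have hKcyc : IsCyclic K := by
    haveI : Group.IsNilpotent K := by
      letI : CommGroup K := { (inferInstance : Group K) with mul_comm := hKab }
      infer_instance
    infer_instance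
  have hKcen : K ≤ center R := hcen K inferInstance hKcyc
  by_contra hne
  have h1 : Nat.card K ≠ 1 := fun h => hne (Subgroup.card_eq_one.1 h)
  obtain ⟨p, hp, hpd⟩ := Nat.exists_prime_and_dvd h1
  haveI : Fact p.Prime := ⟨hp⟩
  have hp2 : p ≠ 2 := fun h => Nat.not_even_iff_odd.2 hodd (even_iff_two_dvd.2 (h ▸ hpd))
  have hQ : CycOdd (R ⧸ K) := hO.of_surjective _ (QuotientGroup.mk'_surjective _)
  refine Cfsg.Agent.S0102.result (Group.isPerfect_def.1 inferInstance) (fun P => hQ p hp hp2 P P.2)
    (QuotientGroup.mk' K) (QuotientGroup.mk'_surjective _) ?_ hperf ?_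
  · rw [QuotientGroup.ker_mk']; exact hKcen
  · rwa [QuotientGroup.ker_mk']

/-- Perfect groups with cyclic odd Sylow subgroups and almost cyclic Sylow 2-subgroups. -/
theorem perfect_cases (hGW : GWConsumers12.GWPerfect.{u}) (hSD : NoSemidihedralSimple.{u})
    (hO : CycOdd R) (hT : CycTwo R) :
    ∃ (p : ℕ) (_ : Fact p.Prime), 5 ≤ p ∧
      (Nonempty (R ≃* Matrix.ProjectiveSpecialLinearGroup (Fin 2) (ZMod p)) ∨
       Nonempty (R ≃* Matrix.SpecialLinearGroup (Fin 2) (ZMod p))) := by
  obtain ⟨p, hp, h5, h⟩ := quotient_cases hGW hSD hO hT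
  let e : R ≃* R ⧸ Cfsg.oddCore R :=
    ((QuotientGroup.quotientMulEquivOfEq (oddCore_eq_bot hO)).trans QuotientGroup.quotientBot).symm
  exact ⟨p, hp, h5, h.imp (fun ⟨r⟩ => ⟨e.trans r⟩) (fun ⟨r⟩ => ⟨e.trans r⟩)⟩

end Cfsg.Agent.Lib.CyclicSylows69
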