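import Cfsg.Agent.Lib.CyclicSylows69.Perfect
import Cfsg.Agent.Lib.CyclicSylows69.Centraliser
import Cfsg.Agent.Lib.GWConsumers31.SimpleCase
import Cfsg.Agent.Lib.AutPSL.Card
import Cfsg.Agent.Lib.Linear.Order
import Cfsg.Agent.Lib.Cores.MinNormal

/-!
# Non-soluble groups with almost cyclic Sylow subgroups, given the semidihedral exclusion (helper1)
-/

set_option autoImplicit false
set_option linter.style.haveILetI false

universe u

namespace Cfsg.Agent.Lib.CyclicSylows69

open Subgroup Matrix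

variable {G : Type u} [Group G] [Finite G]

/-- The perfect residual. -/
theorem exists_perfect_residual (hns : ¬ Group.IsSolvable G) :
    ∃ R : Subgroup G, R.Normal ∧ Group.IsPerfect R ∧ Nontrivial R := by
  obtain ⟨n, hn⟩ : ∃ n, derivedSeries G (n + 1) = derivedSeries G n := by
    by_contra! hall
    have h : ∀ n, Nat.card (derivedSeries G n) + n ≤ Nat.card G := by
      intro n
      induction n with
      | zero => simp [derivedSeries_zero]
      | succ n ih =>
          have hle : derivedSeries G (n + 1) ≤ derivedSeries G n :=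
            derivedSeries_antitone G n.le_succ
          have hlt : Nat.card (derivedSeries G (n + 1)) < Nat.card (derivedSeries G n) := by
            by_contra hc
            exact hall n (Subgroup.eq_of_le_of_card_ge hle (not_lt.mp hc))
          omega
    have := h (Nat.card G)
    have := Nat.card_pos (α := derivedSeries G (Nat.card G))
    omega
  exact ⟨derivedSeries G n, derivedSeries_normal G n, Subgroup.isPerfect_iff.2 hn,
    (Subgroup.nontrivial_iff_ne_bot _).2 fun h => hns ⟨⟨n, h⟩⟩⟩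

/-- The centre and the central quotient of `PSL(2,p)` and `SL(2,p)`. -/
theorem center_facts {R : Type*} [Group R] {p : ℕ} [Fact p.Prime] (hp : 5 ≤ p)
    (h : Nonempty (R ≃* Matrix.ProjectiveSpecialLinearGroup (Fin 2) (ZMod p)) ∨
      Nonempty (R ≃* Matrix.SpecialLinearGroup (Fin 2) (ZMod p))) :
    (Nonempty (R ≃* Matrix.ProjectiveSpecialLinearGroup (Fin 2) (ZMod p)) → center R = ⊥) ∧
      Nat.card (center R) ∣ 2 ∧
      Nonempty (R ⧸ center R ≃* Matrix.ProjectiveSpecialLinearGroup (Fin 2) (ZMod p)) := by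
  haveI : Group.IsPerfect (Matrix.SpecialLinearGroup (Fin 2) (ZMod p)) :=
    Group.isPerfect_def.2 (Linear.commutator_SL_eq_top (F := ZMod p) le_rfl
      (fun _ => by rw [Nat.card_zmod]; omega))
  have h0 : center (Matrix.ProjectiveSpecialLinearGroup (Fin 2) (ZMod p)) = ⊥ :=
    Group.IsPerfect.center_quotient_center_eq_bot (Matrix.SpecialLinearGroup (Fin 2) (ZMod p))
  have hbot : Nonempty (R ≃* Matrix.ProjectiveSpecialLinearGroup (Fin 2) (ZMod p)) → center R = ⊥ := by
    rintro ⟨e⟩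
    rw [← map_eq_bot_iff_of_injective (center R) (f := e.toMonoidHom) e.injective,
      GWConsumers31.map_center_eq, h0]
  refine ⟨hbot, ?_⟩
  rcases h with ⟨⟨e⟩⟩ | ⟨⟨e⟩⟩
  · have hb := hbot ⟨e⟩
    exact ⟨by rw [hb, card_bot]; exact one_dvd 2,
      ⟨(QuotientGroup.quotientMulEquivOfEq hb).trans (QuotientGroup.quotientBot.trans e)⟩⟩
  · refine ⟨?_, ⟨QuotientGroup.congr _ _ e (GWConsumers31.map_center_eq e)⟩⟩
    rw [← card_map_of_injective (f := e.toMonoidHom) e.injective (K := center R),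
      GWConsumers31.map_center_eq, Linear.card_center_SL, Fintype.card_fin]
    exact Nat.gcd_dvd_left _ _

theorem card_mulAut_psl {p : ℕ} [Fact p.Prime] (hp : 5 ≤ p) :
    Nat.card (MulAut (Matrix.ProjectiveSpecialLinearGroup (Fin 2) (ZMod p))) =
      2 * Nat.card (Matrix.ProjectiveSpecialLinearGroup (Fin 2) (ZMod p)) := by
  obtain ⟨k, hk⟩ := (Fact.out : p.Prime).odd_of_ne_two (by omega)
  rw [AutPSL.card_mulAut_PSL (p := p) (f := 1) (by rw [ZMod.card, pow_one]) le_rfl, if_pos rfl,
    one_mul, one_mul, Linear.card_PGL_eq_card_SL, Linear.card_SL_eq_gcd_mul_card_PSL,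
    Fintype.card_fin, Nat.card_zmod, show p - 1 = 2 * k by omega,
    Nat.gcd_eq_left (dvd_mul_right 2 k)]

/-- Statement S4069, given the Gorenstein-Walter theorem and the semidihedral exclusion. -/
theorem main (hGW : GWConsumers12.GWPerfect.{u}) (hSD : NoSemidihedralSimple.{u})
    (hns : ¬ Group.IsSolvable G)
    (hodd : ∀ p : ℕ, p.Prime → p ≠ 2 → ∀ P : Sylow p G, IsCyclic P)
    (h2 : ∀ S : Sylow 2 G, ∃ C : Subgroup ↥(S : Subgroup G), IsCyclic C ∧ C.index ∣ 2) :
    ∃ G₀ : Subgroup G, G₀.Normal ∧ G₀.index ∣ 2 ∧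
      ∃ X L : Subgroup ↥G₀, X.Normal ∧ L.Normal ∧ X ⊓ L = ⊥ ∧ X ⊔ L = ⊤ ∧ (Nat.card X).Coprime (Nat.card L) ∧
        Odd (Nat.card X) ∧ (∃ (C : Subgroup ↥X) (_ : C.Normal), IsCyclic C ∧ IsCyclic (↥X ⧸ C)) ∧
        ∃ (p : ℕ) (_ : Fact p.Prime), 5 ≤ p ∧
          (Nonempty (↥L ≃* Matrix.ProjectiveSpecialLinearGroup (Fin 2) (ZMod p)) ∨
           Nonempty (↥L ≃* Matrix.SpecialLinearGroup (Fin 2) (ZMod p))) := by
  classical
  haveI : Fact (Nat.Prime 2) := ⟨Nat.prime_two⟩
  have hO := cycOdd_of_sylow hodd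
  have hT := cycTwo_of_sylow h2
  obtain ⟨R, hRn, hRp, hRnt⟩ := exists_perfect_residual hns
  obtain ⟨p, hp, h5, hiso⟩ := perfect_cases hGW hSD (hO.subgroup R) (hT.subgroup R)
  obtain ⟨hbot, hZ, ⟨e0⟩⟩ := center_facts h5 hiso
  -- the centraliser
  set C := centralizer (R : Set G) with hC
  haveI hCn : C.Normal := inferInstance
  set φ := GWConsumers31.quotAction R with hφdef
  have hφker : φ.ker = C := by
    refine le_antisymm (fun g hg => GWConsumers31.ker_quotAction R
      (Group.isPerfect_def.1 hRp) hg) fun g hg => ?_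
    rw [MonoidHom.mem_ker]
    refine MulEquiv.ext fun x => ?_
    induction x using QuotientGroup.induction_on with | H r => ?_
    show QuotientGroup.mk (MulAut.conjNormal g r) = QuotientGroup.mk r
    congr 1
    refine Subtype.ext ?_
    rw [MulAut.conjNormal_apply, ← mem_centralizer_iff.1 hg r r.2, mul_inv_cancel_right]
  have hZR : ∀ g, g ∈ C → ∀ hg : g ∈ R, (⟨g, hg⟩ : R) ∈ center R := fun g hgC hg =>
    mem_center_iff.2 fun r => Subtype.ext (mem_centralizer_iff.1 hgC r r.2)
  -- index of `C ⊔ R`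
  have hRC : C.subgroupOf R = center R := by
    ext x
    refine ⟨fun hx => hZR x (mem_subgroupOf.1 hx) x.2, fun hx => ?_⟩
    exact mem_subgroupOf.2 (mem_centralizer_iff.2 fun r hr =>
      congrArg Subtype.val (mem_center_iff.1 hx ⟨r, hr⟩))
  have hmap : Nat.card (R.map φ) =
      Nat.card (Matrix.ProjectiveSpecialLinearGroup (Fin 2) (ZMod p)) := by
    have h1 : (φ.comp R.subtype).range = R.map φ := by
      rw [MonoidHom.range_comp, Subgroup.range_subtype]
    rw [← h1, ← Subgroup.index_ker, ← MonoidHom.comap_ker, hφker, ← Nat.card_congr e0.toEquiv,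
      ← Subgroup.index_eq_card]
    exact congrArg Subgroup.index hRC
  have hidx : (C ⊔ R).index ∣ 2 := by
    have h1 := Subgroup.index_map R φ
    rw [hφker, sup_comm] at h1
    have h2' : (R.map φ).index = 2 := by
      have h3 := (R.map φ).card_mul_index
      rw [hmap, Nat.card_congr (MulAut.congr e0).toEquiv, card_mulAut_psl h5, mul_comm 2] at h3
      exact Nat.eq_of_mul_eq_mul_left Nat.card_pos h3
    rw [h2'] at h1
    exact Dvd.intro _ h1.symm
  -- the odd part of the centraliser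
  set Z := R.subgroupOf C with hZdef
  haveI : Z.Normal := inferInstanceAs (R.subgroupOf C).Normal
  have hZcard : Nat.card Z ∣ 2 := by
    let f : Z →* center R :=
      { toFun := fun z => ⟨⟨((z : C) : G), z.2⟩, hZR _ (z : C).2 z.2⟩
        map_one' := rfl
        map_mul' := fun _ _ => rfl }
    have hf : Function.Injective f := fun a b hab =>
      Subtype.ext (Subtype.ext (congrArg (fun w : center R => ((w : R) : G)) hab))
    exact (Subgroup.card_dvd_of_injective f hf).trans hZ
  have htwo : ∀ P : Subgroup C, IsPGroup 2 P → P ≤ Z := by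
    intro P hP c hc
    obtain ⟨d, hd⟩ := hP ⟨c, hc⟩
    exact mem_subgroupOf.2 (two_elt_mem hT h5 hiso hbot (c := (c : G)) (d := d)
      (congrArg (fun w : P => ((w : C) : G)) hd) c.2)
  have hZodd : ¬ 2 ∣ Z.index := by
    let P : Sylow 2 C := default
    exact fun h => P.not_dvd_index (h.trans (index_dvd_of_le (htwo P P.2)))
  obtain ⟨K, hK⟩ := Subgroup.exists_left_complement'_of_coprime (N := Z) (by
    refine Nat.Coprime.coprime_dvd_left hZcard ?_
    exact (Nat.prime_two.coprime_iff_not_dvd).2 hZodd)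
  have hKo : Odd (Nat.card K) := by
    rw [← hK.index_eq_card, ← Nat.not_even_iff_odd, even_iff_two_dvd]; exact hZodd
  have hZc : ∀ z ∈ Z, ∀ c : C, c * z = z * c := fun z hz c => Subtype.ext
    (mem_centralizer_iff.1 c.2 z (mem_subgroupOf.1 hz)).symm
  haveI hKn : K.Normal := by
    rw [← normalizer_eq_top_iff, eq_top_iff, ← hK.sup_eq_top]
    refine sup_le le_normalizer fun z hz => mem_normalizer_iff.2 fun k => ?_
    rw [← hZc z hz k, mul_inv_cancel_right]
  haveI hOchar : (Cfsg.oddCore C).Characteristic := Cores.pPrimeCore_characteristic 2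
  set X := (Cfsg.oddCore C).map C.subtype with hXdef
  haveI hXn : X.Normal := Cores.normal_map_subtype C (Cfsg.oddCore C)
  have hXo : Odd (Nat.card X) := by
    rw [hXdef, card_map_of_injective C.subtype_injective]
    exact ZStar.Elements.oddCore_odd
  have hXC : X ≤ C := map_subtype_le _
  have hsup : C ⊔ R = X ⊔ R := by
    refine le_antisymm (sup_le ?_ le_sup_right) (sup_le_sup_right hXC _)
    intro g hg
    obtain ⟨k, hk, z, hz, hkz⟩ := mem_sup_of_normal_left.1
      (hK.sup_eq_top.ge (mem_top (⟨g, hg⟩ : C)))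
    rw [show g = (k : G) * (z : G) from (congrArg Subtype.val hkz).symm]
    exact mul_mem (mem_sup_left ⟨k, ZStar.Elements.le_oddCore hKo hk, rfl⟩)
      (mem_sup_right (mem_subgroupOf.1 hz))
  have hXR : X ⊓ R = ⊥ := by
    rw [eq_bot_iff]
    rintro g ⟨hgX, hgR⟩
    have h1 : orderOf (⟨g, hXC hgX⟩ : C) ∣ Nat.card Z :=
      Subgroup.orderOf_dvd_natCard Z (mem_subgroupOf.2 hgR)
    rw [← Subgroup.orderOf_coe] at h1
    have h3 : orderOf g ∣ Nat.card X := Subgroup.orderOf_dvd_natCard X hgX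
    have h4 : orderOf g ∣ 1 := by
      rw [← (Nat.coprime_two_left.2 hXo).gcd_eq_one]
      exact Nat.dvd_gcd (h1.trans hZcard) h3
    exact mem_bot.2 (orderOf_eq_one_iff.1 (Nat.dvd_one.1 h4))
  have hcop : (Nat.card X).Coprime (Nat.card R) := by
    refine Nat.coprime_of_dvd fun r hr hrX hrR => ?_
    haveI : Fact r.Prime := ⟨hr⟩
    have hr2 : r ≠ 2 := fun h => Nat.not_even_iff_odd.2 hXo (even_iff_two_dvd.2 (h ▸ hrX))
    obtain ⟨⟨x, hx⟩, hxo⟩ := exists_prime_orderOf_dvd_card' (G := X) r hrX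
    obtain ⟨⟨y, hy⟩, hyo⟩ := exists_prime_orderOf_dvd_card' (G := R) r hrR
    rw [← Subgroup.orderOf_coe] at hxo hyo
    change orderOf x = r at hxo
    change orderOf y = r at hyo
    have hzy : IsPGroup r (zpowers y) := IsPGroup.of_card (n := 1) (by rw [Nat.card_zpowers, hyo, pow_one])
    have hzx : IsPGroup r (zpowers x) := IsPGroup.of_card (n := 1) (by rw [Nat.card_zpowers, hxo, pow_one])
    have hP : IsPGroup r ↥(zpowers x ⊔ zpowers y : Subgroup G) := by
      refine hzx.to_sup_of_normal_right' hzy (le_trans ?_ (Subgroup.centralizer_le_normalizer _))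
      rw [zpowers_le]
      refine mem_centralizer_iff.2 fun g hg => ?_
      obtain ⟨i, rfl⟩ := mem_zpowers_iff.1 hg
      exact mem_centralizer_iff.1 (hXC hx) _ (zpow_mem hy i)
    haveI := hO r hr hr2 _ hP
    set P := zpowers x ⊔ zpowers y
    have he : zpowers (⟨x, mem_sup_left (mem_zpowers x)⟩ : P) =
        zpowers (⟨y, mem_sup_right (mem_zpowers y)⟩ : P) :=
      GWConsumers12.eq_of_card_eq_cyclic (by
        rw [Nat.card_zpowers, Nat.card_zpowers, ← Subgroup.orderOf_coe, ← Subgroup.orderOf_coe]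
        show orderOf x = orderOf y
        rw [hxo, hyo])
    obtain ⟨i, hi⟩ := mem_zpowers_iff.1 (he ▸ mem_zpowers (⟨y, mem_sup_right (mem_zpowers y)⟩ : P) :
      (⟨y, mem_sup_right (mem_zpowers y)⟩ : P) ∈ zpowers ⟨x, mem_sup_left (mem_zpowers x)⟩)
    have hi' : x ^ i = y := congrArg Subtype.val hi
    have hyX : y ∈ X := by rw [← hi']; exact zpow_mem hx i
    rw [show y = 1 from mem_bot.1 (hXR ▸ mem_inf.2 ⟨hyX, hy⟩), orderOf_one] at hyo
    exact hr.one_lt.ne hyo
  -- the conclusion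
  haveI : IsZGroup X := (hO.subgroup X).isZGroup hXo
  let eX : X.subgroupOf (X ⊔ R) ≃* X := subgroupOfEquivOfLe le_sup_left
  let eR : R.subgroupOf (X ⊔ R) ≃* R := subgroupOfEquivOfLe le_sup_right
  refine ⟨X ⊔ R, inferInstance, hsup ▸ hidx, X.subgroupOf (X ⊔ R), R.subgroupOf (X ⊔ R),
    inferInstance, inferInstance, ?_, ?_, ?_, ?_, ?_, p, hp, h5,
    hiso.imp (fun ⟨r⟩ => ⟨eR.trans r⟩) (fun ⟨r⟩ => ⟨eR.trans r⟩)⟩
  · rw [eq_bot_iff]
    rintro g ⟨h1, h3⟩
    exact mem_bot.2 (Subtype.ext (mem_bot.1 (hXR ▸ mem_inf.2 ⟨h1, h3⟩)))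
  · rw [← Subgroup.subgroupOf_sup le_sup_left le_sup_right, subgroupOf_self]
  · rw [Nat.card_congr eX.toEquiv, Nat.card_congr eR.toEquiv]; exact hcop
  · rw [Nat.card_congr eX.toEquiv]; exact hXo
  · haveI : IsZGroup (X.subgroupOf (X ⊔ R)) := IsZGroup.of_injective (f := eX.toMonoidHom) eX.injective
    exact ⟨commutator _, inferInstance, IsZGroup.isCyclic_commutator _, IsZGroup.isCyclic_abelianization⟩

end Cfsg.Agent.Lib.CyclicSylows69
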